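import Groth.Prelude.Def_HTor
import Groth.Agent.S6498
import Groth.Agent.H17.FourierMukai.FlatKernel
import Groth.Agent.H17.ConsModModels
import Groth.Agent.H16Derived.KFlat.RestrictD
import Groth.Agent.H16Derived.KFlat.PerfCohSingle

/-!
# Coherence of local hypertor sheaves
-/

set_option autoImplicit false
set_option linter.style.haveILetI false
set_option backward.isDefEq.respectTransparency false

universe u

open CategoryTheory CategoryTheory.Limits AlgebraicGeometry

attribute [local instance] HasDerivedCategory.standard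

noncomputable section

namespace Groth.Agent.H02CA.HTorCoh

open Groth.Agent.H16Derived Groth.Agent.H16Derived.KFlat Groth.Agent.H16Derived.KFlat.Stalk

variable {Y Z : Scheme.{u}}

/-- Termwise pullback along a flat morphism preserves coherence of cohomology and boundedness. -/
theorem isCohD_pullCx (q : Z ⟶ Y) [Flat q] (Q : CochainComplex Y.Modules ℤ)
    (hQ : DCoh.IsCohD (DCoh.toD Y Q)) (hb : ∃ b : ℤ, ∀ i, b < i → IsZero (DCoh.HD (DCoh.toD Y Q) i)) :
    DCoh.IsCohD (DCoh.toD Z ((HTor.pullCx q).obj Q)) ∧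
      ∃ b : ℤ, ∀ i, b < i → IsZero (DCoh.HD (DCoh.toD Z ((HTor.pullCx q).obj Q)) i) := by
  haveI := preservesFiniteLimits_pullback_of_flat q
  let e : ∀ i, DCoh.HD (DCoh.toD Z ((HTor.pullCx q).obj Q)) i ≅
      (Scheme.Modules.pullback q).obj (DCoh.HD (DCoh.toD Y Q) i) := fun i =>
    (DerivedCategory.homologyFunctorFactors _ i).app _ ≪≫
      (Q.sc i).mapHomologyIso (Scheme.Modules.pullback q) ≪≫
      (Scheme.Modules.pullback q).mapIso ((DerivedCategory.homologyFunctorFactors _ i).app Q).symm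
  obtain ⟨b, hb⟩ := hb
  exact ⟨fun i => H10Coh.isCoh_of_iso (e i).symm (H17.ConsProp.isCoh_pullback q (hQ i)),
    b, fun i hi => ((Scheme.Modules.pullback q).map_isZero (hb i hi)).of_iso (e i)⟩

/-- `Lp^*` of a bounded above object with coherent cohomology. -/
theorem isCohD_lpull {X : Scheme.{u}} [IsLocallyNoetherian X] [IsLocallyNoetherian Z] (p : Z ⟶ X) [DCoh.HasLpull p]
    (L : DCoh.D X) (hL : DCoh.IsCohD L) (b : ℤ) [L.IsLE b] :
    DCoh.IsCohD ((DCoh.Lpull p).obj L) ∧ ∃ a : ℤ, ∀ i, a < i → IsZero (DCoh.HD ((DCoh.Lpull p).obj L) i) := by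
  haveI := isLE_lpull p L b
  exact ⟨H17.FourierMukai.isCohD_of_pc fun m => isPseudoCoherentD_lpull p (Dual.isPseudoCoherentD_of_isCohD b hL m),
    b, fun i hi => DerivedCategory.isZero_of_isLE _ b i hi⟩

/-- A complex vanishing in large degrees. -/
theorem exists_bound {X : Scheme.{u}} (P : CochainComplex X.Modules ℤ) (hb : ∃ b : ℤ, ∀ i : ℤ, b < i → IsZero (P.X i)) :
    ∃ b : ℤ, (DCoh.toD X P).IsLE b := by
  obtain ⟨b, hb⟩ := hb
  haveI : CochainComplex.IsStrictlyLE P b := (CochainComplex.isStrictlyLE_iff _ _).2 hb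
  exact ⟨b, inferInstance⟩

/-- Coherence of the hypertor sheaves. -/
theorem main {X Y S : Scheme.{u}} (f : X ⟶ S) (g : Y ⟶ S) [Flat f] [IsLocallyNoetherian X]
    [IsLocallyNoetherian (pullback f g)] (L : DCoh.D X) (hL : DCoh.IsCohD L) (a : ℤ) [L.IsLE a]
    (Q : CochainComplex Y.Modules ℤ) (hQ : DCoh.IsCohD (DCoh.toD Y Q)) (c : ℤ) [(DCoh.toD Y Q).IsLE c]
    [DCoh.HasLpull (pullback.fst f g)] [DCoh.HasLTensorCx ((HTor.pullCx (pullback.snd f g)).obj Q)] :
    DCoh.IsCohD ((DCoh.LTensorCx ((HTor.pullCx (pullback.snd f g)).obj Q)).obj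
      ((DCoh.Lpull (pullback.fst f g)).obj L)) := by
  obtain ⟨h1, h2⟩ := isCohD_lpull (pullback.fst f g) L hL a
  obtain ⟨h3, h4⟩ := isCohD_pullCx (pullback.snd f g) Q hQ
    ⟨c, fun i hi => DerivedCategory.isZero_of_isLE _ c i hi⟩
  exact (S6498.result _ _ _ h1 h2 h3 h4).1

end Groth.Agent.H02CA.HTorCoh

namespace Groth.Agent.H02CA.HTorCoh

open Groth.Agent.H16Derived

/-- A coherent module has coherent cohomology. -/
theorem isCohD_inD {X : Scheme.{u}} {G : X.Modules} (hG : Coh.IsCoh G) : DCoh.IsCohD (DCoh.inD X G) := fun i => by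
  rcases eq_or_ne i 0 with rfl | hi
  · exact H10Coh.isCoh_of_iso ((DerivedCategory.singleFunctorCompHomologyFunctorIso X.Modules 0).app G).symm hG
  · have hz : IsZero (DCoh.HD (DCoh.inD X G) i) := by
      rcases lt_or_gt_of_ne hi with h | h
      · exact DerivedCategory.isZero_of_isGE _ 0 i h
      · exact DerivedCategory.isZero_of_isLE _ 0 i h
    haveI : Epi (0 : G ⟶ DCoh.HD (DCoh.inD X G) i) := ⟨fun a b _ => hz.eq_of_src a b⟩
    exact ⟨H10Coh.isQuasicoherent_zero _ hz, H16Derived.KFlat.Stalk.isFT_of_epi 0 hG.2⟩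

end Groth.Agent.H02CA.HTorCoh
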